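import Cfsg.Agent.Lib.Helper1.TSNTDefs

/-!
# Project TS2: the NT world of S5666 for `a = 2` (`Sp_2(q) ⊗ O_b(q) < Sp_2b(q)`, `b ≥ 7`, `q` odd) — definitions

On top of `Helper21.TS.Defs / Basic / XA` and `Helper1.TSNTDefs` (`LamF`, `StabA`).  Paper proof:
`Cfsg/Agent/Lib/Helper27/TS/NOTES.md`, section "a = 2"; statements: `Skel.lean.txt` in this folder.
`Ω = M / T0`; "UFP" = "fixes exactly one point of `Ω`": `h r h⁻¹ ∈ T0 → h ∈ T0`.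
-/

set_option autoImplicit false
set_option linter.unusedSectionVars false

namespace Cfsg.Agent.Lib.Helper21.TS

open Matrix
open scoped Kronecker
open Cfsg.Agent.Lib.helper7.TP

variable {a b : ℕ} {F : Type*} [Field F]

/-- NT on the `B` side: `1 + ζ ⊗ w w^* ∈ M`, `w` singular, forces `ζ = 0`. -/
def NtB (J2 : Matrix (Fin b) (Fin b) F)
    (M : Subgroup (Matrix.GeneralLinearGroup (Fin a × Fin b) F)) : Prop :=
  ∀ (ζ : Matrix (Fin a) (Fin a) F) (w : Fin b → F), w ≠ 0 → bf J2 w w = 0 →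
    InM M (XBm J2 ζ w) → ζ = 0

/-- UFP for the `A`-root elements `x_u(c) = X_u(c • 1)`, `c ≠ 0`: `v x_u(c) v⁻¹ ∈ T0`, `v ∈ M` ⟹ `v ∈ T0`. -/
def UfpA (J1 : Matrix (Fin a) (Fin a) F) (J2 : Matrix (Fin b) (Fin b) F)
    (M : Subgroup (Matrix.GeneralLinearGroup (Fin a × Fin b) F)) : Prop :=
  ∀ (u : Fin a → F) (c : F) (x : Matrix.GeneralLinearGroup (Fin a × Fin b) F), u ≠ 0 → c ≠ 0 →
    (x : Matrix (Fin a × Fin b) (Fin a × Fin b) F) = XAm J1 u (c • (1 : Matrix (Fin b) (Fin b) F)) →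
    ∀ v ∈ M, v * x * v⁻¹ ∈ T0 J1 J2 → v ∈ T0 J1 J2

/-- STAB for singular `B`-lines: `g ∈ M` maps `A ⊗ w` into `A ⊗ w'` (`w` singular) ⟹ `g ∈ T0`. -/
def StabB (J1 : Matrix (Fin a) (Fin a) F) (J2 : Matrix (Fin b) (Fin b) F)
    (M : Subgroup (Matrix.GeneralLinearGroup (Fin a × Fin b) F)) : Prop :=
  ∀ g ∈ M, ∀ w w' : Fin b → F, w ≠ 0 → w' ≠ 0 → bf J2 w w = 0 →
    (∀ x : Fin a → F, ∃ x' : Fin a → F,
      (g : Matrix (Fin a × Fin b) (Fin a × Fin b) F) *ᵥ ten x w = ten x' w') →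
    g ∈ T0 J1 J2

/-- UFP for the Siegel elements `1 ⊗ ρ_{w,m}`, `w` singular, `m ⊥ w` non-singular. -/
def UfpB (J1 : Matrix (Fin a) (Fin a) F) (J2 : Matrix (Fin b) (Fin b) F)
    (M : Subgroup (Matrix.GeneralLinearGroup (Fin a × Fin b) F)) : Prop :=
  ∀ (w m : Fin b → F) (r : Matrix.GeneralLinearGroup (Fin a × Fin b) F), w ≠ 0 → bf J2 w w = 0 →
    bf J2 w m = 0 → bf J2 m m ≠ 0 →
    (r : Matrix (Fin a × Fin b) (Fin a × Fin b) F) = (1 : Matrix (Fin a) (Fin a) F) ⊗ₖ sieg J2 w m →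
    ∀ h ∈ M, h * r * h⁻¹ ∈ T0 J1 J2 → h ∈ T0 J1 J2

end Cfsg.Agent.Lib.Helper21.TS
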